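import Groth.Agent.H4Goren.Hull
import Groth.Agent.H4LC.Torsion
import Groth.Agent.H4Matlis.Duality
import Groth.Agent.H4Matlis.BaseChangeHull
import Groth.Agent.H4Inj.Essential
import Mathlib.RingTheory.Length
import Mathlib.RingTheory.TensorProduct.Quotient
import Mathlib.RingTheory.Localization.Ideal
import Mathlib.RingTheory.Ideal.Quotient.Operations

/-!
# Lengths of linked ideals in zero-dimensional Gorenstein rings
-/

set_option autoImplicit false
set_option linter.style.haveILetI false

universe u

open IsLocalRing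

namespace Groth.Agent.H4LiaisonDeg

/-- `ℓ(C) = ℓ(C/a) + ℓ(C/ann a)` in a zero-dimensional Gorenstein local ring. -/
theorem length_eq_add {C : Type u} [CommRing C] [LocCoh.IsGorensteinLocalRing C]
    (h0 : ringKrullDim C ≤ 0) (a : Ideal C) :
    Module.length C C = Module.length C (C ⧸ a) + Module.length C (C ⧸ Submodule.annihilator a) := by
  haveI : Ring.KrullDimLE 0 C := Ring.krullDimLE_iff.2 h0
  haveI : IsArtinianRing C := isArtinianRing_iff_isNoetherianRing_krullDimLE_zero.2 ⟨inferInstance, inferInstance⟩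
  obtain ⟨g, hg⟩ := H4Goren.exists_isInjectiveHull_H_top C 0 (le_antisymm h0 ringKrullDim_nonneg_of_nontrivial)
  have htor : LocCoh.IsPowerTorsion (maximalIdeal C) C := by
    obtain ⟨N, hN⟩ := IsArtinianRing.isNilpotent_jacobson_bot (R := C)
    rw [IsLocalRing.jacobson_eq_maximalIdeal ⊥ bot_ne_top] at hN
    intro x
    refine ⟨N, fun b hb => ?_⟩
    rw [hN] at hb
    rw [show b = 0 from hb, zero_smul]
  have hhull := H4Inj.IsInjectiveHull.comp_equiv hg (H4LC.zeroEquivOfTorsion (maximalIdeal C) htor)
  have hq : IsFiniteLength C (C ⧸ a) :=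
    isFiniteLength_iff_isNoetherian_isArtinian.2 ⟨inferInstance, inferInstance⟩
  have hann : Module.length C (Submodule.annihilator a : Ideal C) = Module.length C (C ⧸ a) := by
    rw [← H4Matlis.length_hom_eq_length hhull hq, (H4Matlis.homQuotEquivTorsionBy a C).length_eq]
    refine (LinearEquiv.ofEq _ _ ?_).length_eq
    ext x
    rw [Submodule.mem_torsionBySet_iff, Submodule.mem_annihilator]
    exact ⟨fun h b => (mul_comm _ _).trans (h b.1 b.2), fun h b hb => (mul_comm _ _).trans (h ⟨b, hb⟩)⟩
  rw [Module.length_eq_add_of_exact (Submodule.annihilator a).subtype (Submodule.annihilator a).mkQ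
    Subtype.val_injective (Submodule.mkQ_surjective _) (LinearMap.exact_subtype_mkQ _), hann]

variable {S : Type u} [CommRing S]

theorem length_quot_quot {L : Type u} [CommRing L] (c X : Ideal L) (h : c ≤ X) :
    Module.length L (L ⧸ X) = Module.length (L ⧸ c) ((L ⧸ c) ⧸ X.map (Ideal.Quotient.mk c)) := by
  haveI : IsScalarTower L (L ⧸ c) ((L ⧸ c) ⧸ X.map (Ideal.Quotient.mk c)) :=
    IsScalarTower.of_algebraMap_smul fun a x => by
      obtain ⟨x, rfl⟩ := Submodule.Quotient.mk_surjective _ x
      rfl
  rw [← Module.length_eq_of_surjective (S := L) (R := L ⧸ c) (M := (L ⧸ c) ⧸ X.map (Ideal.Quotient.mk c))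
    Ideal.Quotient.mk_surjective]
  exact (DoubleQuot.quotQuotEquivQuotOfLEₐ L h).toLinearEquiv.length_eq.symm

/-- The annihilator of `I C` is `(𝔠 : I) C` for `C = L/𝔠L`. -/
theorem annihilator_map_eq (𝔠 I : Ideal S) (P : Ideal S) [P.IsPrime] (hI : I.FG) :
    Submodule.annihilator ((I.map (algebraMap S (Localization.AtPrime P))).map
        (Ideal.Quotient.mk (𝔠.map (algebraMap S (Localization.AtPrime P))))) =
      ((𝔠.colon (I : Set S)).map (algebraMap S (Localization.AtPrime P))).map
        (Ideal.Quotient.mk (𝔠.map (algebraMap S (Localization.AtPrime P)))) := by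
  let L := Localization.AtPrime P
  let cL := 𝔠.map (algebraMap S L)
  let π : L →+* L ⧸ cL := Ideal.Quotient.mk cL
  have hπ : Function.Surjective π := Ideal.Quotient.mk_surjective
  refine le_antisymm (fun y hy => ?_) ?_
  · obtain ⟨y, rfl⟩ := hπ y
    obtain ⟨⟨x, s⟩, hxs⟩ := IsLocalization.surj P.primeCompl y
    dsimp only at hxs
    obtain ⟨G, hG⟩ := hI
    have h1 : ∀ g ∈ G, ∃ t ∈ P.primeCompl, t * (x * g) ∈ 𝔠 := fun g hg => by
      refine (IsLocalization.algebraMap_mem_map_algebraMap_iff P.primeCompl L 𝔠 _).1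
        (Ideal.Quotient.eq_zero_iff_mem.1 ?_)
      have h2 := Submodule.mem_annihilator.1 hy (π (algebraMap S L g))
        (Ideal.mem_map_of_mem _ (Ideal.mem_map_of_mem _ (hG ▸ Submodule.subset_span hg)))
      rw [smul_eq_mul] at h2
      show π (algebraMap S L (x * g)) = 0
      rw [map_mul, ← hxs, map_mul, map_mul, mul_right_comm, h2, zero_mul]
    choose! t ht htc using h1
    have hTx : (∏ g ∈ G, t g) * x ∈ 𝔠.colon (I : Set S) := by
      refine Submodule.mem_colon.2 fun z hz => ?_
      have hle' : I ≤ Submodule.comap (LinearMap.lsmul S S ((∏ g ∈ G, t g) * x)) 𝔠 := by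
        rw [← hG, Submodule.span_le]
        intro g hg
        classical
        show (∏ g ∈ G, t g) * x * g ∈ 𝔠
        rw [← Finset.prod_erase_mul G t hg, mul_assoc, mul_assoc]
        exact Ideal.mul_mem_left _ _ (htc g hg)
      exact hle' hz
    have hu : IsUnit (π (algebraMap S L ((∏ g ∈ G, t g) * s))) :=
      (IsLocalization.map_units L (⟨_, mul_mem (prod_mem fun g hg => ht g hg) s.2⟩ : P.primeCompl)).map π
    refine (Ideal.unit_mul_mem_iff_mem _ hu).1 ?_
    rw [← map_mul π, map_mul (algebraMap S L), mul_assoc, mul_comm (algebraMap S L (s : S)), hxs, ← map_mul]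
    exact Ideal.mem_map_of_mem _ (Ideal.mem_map_of_mem _ hTx)
  · rw [Ideal.map_map, Ideal.map_map, Ideal.map_le_iff_le_comap]
    intro x hx
    refine Submodule.mem_annihilator.2 fun z hz => ?_
    have hle' : I.map (π.comp (algebraMap S L)) ≤
        LinearMap.ker (LinearMap.lsmul (L ⧸ cL) (L ⧸ cL) ((π.comp (algebraMap S L)) x)) := by
      rw [Ideal.map_le_iff_le_comap]
      intro w hw
      show π (algebraMap S L x) * π (algebraMap S L w) = 0
      rw [← map_mul, ← map_mul]
      exact Ideal.Quotient.eq_zero_iff_mem.2 (Ideal.mem_map_of_mem _ (Submodule.mem_colon.1 hx w hw))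
    exact hle' hz

/-- Lengths at a prime where `S/𝔠` is zero-dimensional Gorenstein. -/
theorem localized_length_add (𝔠 I : Ideal S) (P : Ideal S) [P.IsPrime] (hle : 𝔠 ≤ I) (hI : I.FG)
    [LocCoh.IsGorensteinLocalRing (Localization.AtPrime P ⧸ 𝔠.map (algebraMap S (Localization.AtPrime P)))]
    (h0 : ringKrullDim (Localization.AtPrime P ⧸ 𝔠.map (algebraMap S (Localization.AtPrime P))) ≤ 0) :
    Module.length (Localization.AtPrime P) (LocalizedModule P.primeCompl (S ⧸ 𝔠)) =
      Module.length (Localization.AtPrime P) (LocalizedModule P.primeCompl (S ⧸ I)) +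
        Module.length (Localization.AtPrime P) (LocalizedModule P.primeCompl (S ⧸ 𝔠.colon (I : Set S))) := by
  have heq : ∀ X : Ideal S, Module.length (Localization.AtPrime P) (LocalizedModule P.primeCompl (S ⧸ X)) =
      Module.length (Localization.AtPrime P) (Localization.AtPrime P ⧸ X.map (algebraMap S (Localization.AtPrime P))) :=
    fun X => ((LocalizedModule.equivTensorProduct P.primeCompl (S ⧸ X)).trans
      (Algebra.TensorProduct.quotIdealMapEquivTensorQuot (Localization.AtPrime P) X).symm.toLinearEquiv).length_eq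
  have hJ : 𝔠 ≤ 𝔠.colon (I : Set S) := fun a ha => Submodule.mem_colon.2 fun x _ => 𝔠.mul_mem_right x ha
  rw [heq 𝔠, heq I, heq (𝔠.colon (I : Set S)), length_quot_quot _ _ (Ideal.map_mono hle),
    length_quot_quot _ _ (Ideal.map_mono hJ), ← annihilator_map_eq 𝔠 I P hI,
    Module.length_eq_of_surjective (S := Localization.AtPrime P)
      (R := Localization.AtPrime P ⧸ 𝔠.map (algebraMap S (Localization.AtPrime P))) Ideal.Quotient.mk_surjective]
  exact length_eq_add h0 _

end Groth.Agent.H4LiaisonDeg
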